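import Cfsg.Agent.Lib.OddOrder.PF10.Residual.Central
import Cfsg.Agent.Lib.OddOrder.PF10.Key
import Cfsg.Agent.Lib.OddOrder.PF11.Tau
import Cfsg.Agent.Lib.OddOrder.PrimeDade.TypeP
import Cfsg.Agent.Lib.Isometry.FeitCoherence

/-!
# Peterfalvi (10.10), the extraspecial case: `K = M'`, `K' = Z(K) = W₂` of prime order

The members of degree `|W₁|` are coherent; with `χ` the image of one of them, `ζ`, bounds on norms
show that the coefficients at `χ` of the Dade images of the basic combinations are those at `ζ`.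
So `PF10.Key` holds, without assuming that `K` is a TI subset.
-/

set_option autoImplicit false
set_option linter.style.haveILetI false
set_option linter.unusedSectionVars false

namespace Cfsg.Agent.Lib.OddOrder.PF10.Residual.Extraspecial

open scoped ComplexConjugate
open Cfsg.Agent.Lib
open Cfsg.Agent.Lib.CyclicTI (IsP IsQ)
open Cfsg.Agent.Lib.Induced.Basic Cfsg.Agent.Lib.Characters.Basic
open Cfsg.Agent.Lib.Isometry.Inner
open Cfsg.Agent.Lib.Isometry.Inflate (conj_mem_layer mem_layer)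
open Cfsg.Agent.Lib.OddOrder.PF11.Tau (Supp tau_add tau_sub tau_smul tau_sum)
open Cfsg.Agent.Lib.OddOrder.Interface.PF11 (derivedIn tau)

universe u

variable {G : Type u} [_root_.Group G] [Fintype G] {M W₁ W₂ : Subgroup G}

/-- The hypotheses. -/
structure Ctx (M W₁ W₂ : Subgroup G) : Prop where
  le₁ : W₁ ≤ M
  le₂ : W₂ ≤ M
  odd : Odd (Nat.card G)
  central : Central.Ctx (derivedIn M) (W₁.subgroupOf M) (W₂.subgroupOf M)
  selfNormalizing : Cfsg.IsSelfNormalizingCyclic W₁ W₂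
  dade : Cfsg.DadeHypothesis (Cfsg.Agent.Lib.OddOrder.TypeOne.typeA0 M) M (Cfsg.supportR M)
  cyclic_mem : ∀ w ∈ W₁ ⊔ W₂, w ∉ W₁ → w ∉ W₂ → w ∈ Cfsg.Agent.Lib.OddOrder.TypeOne.typeA0 M
  derived_mem : ∀ x ∈ ⁅M, M⁆, x ≠ 1 → x ∈ Cfsg.Agent.Lib.OddOrder.TypeOne.typeA0 M

variable [Fintype ↥M] (c : Ctx M W₁ W₂)

/-- The members of degree `|W₁|`. -/
noncomputable abbrev S₀ (M W₂ : Subgroup G) [Fintype ↥M] : Finset (↥M → ℂ) :=
  Isometry.Inflate.layer (derivedIn M) (W₂.subgroupOf M)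

/-- An extension of the Dade map to the span of these members. -/
structure Coh (M W₂ : Subgroup G) [Fintype ↥M] (T : (↥M → ℂ) → (G → ℂ)) : Prop where
  iso : Cfsg.IsLinearIsometryOn (Cfsg.zspan (↑(S₀ M W₂) : Set (↥M → ℂ))) T
  agree : ∀ f ∈ Cfsg.zspanOn (↑(S₀ M W₂) : Set (↥M → ℂ)) {1}ᶜ, T f = tau M f

include c

theorem card₁ : Nat.card (W₁.subgroupOf M) = Nat.card W₁ :=
  Nat.card_congr (Subgroup.subgroupOfEquivOfLe c.le₁).toEquiv

theorem three_le₁ : 3 ≤ Nat.card W₁ := by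
  obtain ⟨k, hk⟩ := c.odd.of_dvd_nat W₁.card_subgroup_dvd_card
  have : Nat.card W₁ ≠ 1 := fun e => c.selfNormalizing.1 (Subgroup.card_eq_one.1 e)
  omega

theorem three_le₂ : 3 ≤ Nat.card W₂ := by
  obtain ⟨k, hk⟩ := c.odd.of_dvd_nat W₂.card_subgroup_dvd_card
  have : Nat.card W₂ ≠ 1 := fun e => c.selfNormalizing.2.1 (Subgroup.card_eq_one.1 e)
  omega

theorem supp_of_K {f : ↥M → ℂ} (h1 : f 1 = 0) (hK : ∀ x ∉ derivedIn M, f x = 0) : Supp M f := by
  intro x hx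
  by_cases hx1 : x = 1
  · rw [hx1, h1]
  exact hK x fun hxK => hx (c.derived_mem x hxK fun e => hx1 (Subtype.ext e))

theorem supp_of {f : ↥M → ℂ} (hf : Cfsg.IsClassFunction ↥M f) (h1 : f 1 = 0)
    (hW : ∀ x : ↥M, (x : G) ∈ W₁ → x ≠ 1 → f x = 0) : Supp M f := by
  intro x hx
  haveI := PrimeDade.Instance.kernel_normal M
  by_cases hx1 : x = 1
  · rw [hx1, h1]
  by_cases hxK : x ∈ derivedIn M
  · exact absurd (c.derived_mem x hxK fun e => hx1 (Subtype.ext e)) hx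
  obtain ⟨y, w, hw, e⟩ := c.central.plike.exists_conj_mem (g := x) hxK
  have hwW : ((w : ↥M) : G) ∈ W₁ ⊔ W₂ := by
    have h : (w : ↥M) ∈ (W₁ ⊔ W₂).subgroupOf M := (Subgroup.subgroupOf_sup c.le₁ c.le₂).ge w.2
    exact h
  rw [← hf x y, e]
  by_cases h₁ : ((w : ↥M) : G) ∈ W₁
  · exact hW _ h₁ fun e1 => hw (by rw [e1]; exact one_mem _)
  · exfalso
    apply hx
    have h := c.dade.conj_mem (y : G)⁻¹ (inv_mem y.2) _
      (c.cyclic_mem _ hwW h₁ (fun h => hw h))
    have e' : (x : G) = (y : G)⁻¹ * ((w : ↥M) : G) * ((y : G)⁻¹)⁻¹ := by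
      rw [← e]; push_cast; group
    rwa [← e'] at h

theorem tau_gen {f : ↥M → ℂ} (hf : Cfsg.IsGeneralizedCharacter ↥M f) (hs : Supp M f) :
    Cfsg.IsGeneralizedCharacter G (tau M f) :=
  Isometry.DadeGen.gen_dade c.dade hf hs

theorem tau_inner {f g : ↥M → ℂ} (hf : Cfsg.IsClassFunction ↥M f) (hs : Supp M f)
    (hg : Cfsg.IsClassFunction ↥M g) :
    Cfsg.classInner (tau M f) (tau M g) = Cfsg.classInner f g :=
  Isometry.Dade.classInner_dade_dade c.dade hf hs hg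

theorem tau_one (f : ↥M → ℂ) : tau M f 1 = 0 := by
  refine Isometry.Dade.dadeIsometry_eq_zero ?_
  rintro ⟨a, ha, u, hu, x, e⟩
  rw [mul_one, mul_inv_cancel] at e
  have hau : a⁻¹ = u := inv_eq_of_mul_eq_one_right e.symm
  have hm : a ∈ Cfsg.supportR M a ⊓ (M ⊓ Subgroup.centralizer ({a} : Set G)) := by
    refine ⟨?_, c.dade.subset ha, Subgroup.mem_centralizer_singleton_iff.2 rfl⟩
    rw [← hau] at hu
    simpa using (Cfsg.supportR M a).inv_mem hu
  rw [c.dade.inf_eq_bot a ha, Subgroup.mem_bot] at hm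
  exact c.dade.one_not_mem (hm ▸ ha)

theorem mem_spec {ξ : ↥M → ℂ} (hξ : ξ ∈ S₀ M W₂) :
    Cfsg.IsIrrCharacter ↥M ξ ∧ ξ 1 = (Nat.card W₁ : ℂ) ∧ ∀ x ∉ derivedIn M, ξ x = 0 := by
  haveI := PrimeDade.Instance.kernel_normal M
  obtain ⟨θ, -, -, -, -, h1, h2⟩ := Central.layer_spec c.central hξ
  exact ⟨(mem_layer.1 hξ).1, by rw [h1, card₁ c], h2⟩

theorem span_facts {f : ↥M → ℂ} (hf : f ∈ Cfsg.zspan (↑(S₀ M W₂) : Set (↥M → ℂ))) :
    Cfsg.IsGeneralizedCharacter ↥M f ∧ ∀ x ∉ derivedIn M, f x = 0 := by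
  refine ⟨gen_zspan (fun χ hχ => gen_of_irr (mem_spec c (Finset.mem_coe.1 hχ)).1) hf, ?_⟩
  induction hf using Submodule.span_induction with
  | mem z hz => exact (mem_spec c (Finset.mem_coe.1 hz)).2.2
  | zero => exact fun _ _ => rfl
  | add a b _ _ ha hb => exact fun x hx => by rw [Pi.add_apply, ha x hx, hb x hx, add_zero]
  | smul n a _ ha =>
    intro x hx
    rw [← Int.cast_smul_eq_zsmul ℂ, Pi.smul_apply, ha x hx, smul_zero]

theorem span_supp {f : ↥M → ℂ} (hf : f ∈ Cfsg.zspanOn (↑(S₀ M W₂) : Set (↥M → ℂ)) {1}ᶜ) :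
    Cfsg.IsGeneralizedCharacter ↥M f ∧ Supp M f :=
  ⟨(span_facts c hf.1).1, supp_of_K c (mem_zspanOn_one.1 hf).2 (span_facts c hf.1).2⟩

theorem exists_coh {ζ : ↥M → ℂ} (hζ : ζ ∈ S₀ M W₂) : ∃ T, Coh M W₂ T := by
  classical
  haveI := c.central.normal
  have hne : Cfsg.conjFun ζ ≠ ζ := by
    intro e
    obtain ⟨hirr, h1, -⟩ := mem_spec c hζ
    have h0 := Characters.Indicator.eq_oneChar_of_real
      (c.odd.of_dvd_nat M.card_subgroup_dvd_card) ⟨ζ, hirr⟩ (fun g => by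
        rw [← Complex.conj_eq_iff_im]; exact congrFun e g)
    have h2 : ζ 1 = 1 := congrArg (fun χ : Cfsg.IrrCharacter ↥M => (χ : ↥M → ℂ) 1) h0
    rw [h1] at h2
    have h3 := three_le₁ c
    have : Nat.card W₁ = 1 := by exact_mod_cast h2
    omega
  obtain ⟨-, T, hT, hag⟩ := Isometry.FeitCoherence.coherent_equalDeg (τ := tau M) (S₀ M W₂)
    (fun ξ hξ => (mem_spec c hξ).1) (Nat.card W₁ : ℂ) (fun ξ hξ => (mem_spec c hξ).2.1)
    (Finset.one_lt_card.2 ⟨_, conj_mem_layer hζ, _, hζ, hne⟩)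
    ⟨fun a _ b _ => tau_add a b,
      fun a _ n => by rw [← Int.cast_smul_eq_zsmul ℂ, tau_smul, Int.cast_smul_eq_zsmul],
      fun a ha b hb => tau_inner c (gen_classFun (span_supp c ha).1) (span_supp c ha).2
        (gen_classFun (span_supp c hb).1),
      fun a ha => tau_gen c (span_supp c ha).1 (span_supp c ha).2⟩
    (fun a _ => tau_one c a)
  exact ⟨T, hT, hag⟩

variable {T : (↥M → ℂ) → (G → ℂ)} (hT : Coh M W₂ T)

include hT

theorem T_inner {a b : ↥M → ℂ} (ha : a ∈ S₀ M W₂) (hb : b ∈ S₀ M W₂) [Decidable (a = b)] :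
    Cfsg.classInner (T a) (T b) = if a = b then 1 else 0 := by
  rw [hT.iso.2.2.1 a (subset_zspan _ (Finset.mem_coe.2 ha)) b (subset_zspan _ (Finset.mem_coe.2 hb)),
    classInner_irr_eq (mem_spec c ha).1 (mem_spec c hb).1]
  congr

theorem T_signed {a : ↥M → ℂ} (ha : a ∈ S₀ M W₂) :
    Cfsg.IsIrrCharacter G (T a) ∨ Cfsg.IsIrrCharacter G (-T a) := by
  classical
  exact signed_of_norm_one (hT.iso.2.2.2 a (subset_zspan _ (Finset.mem_coe.2 ha)))
    (by rw [T_inner c hT ha ha, if_pos rfl])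

theorem diff_mem {a b : ↥M → ℂ} (ha : a ∈ S₀ M W₂) (hb : b ∈ S₀ M W₂) :
    a - b ∈ Cfsg.zspanOn (↑(S₀ M W₂) : Set (↥M → ℂ)) {1}ᶜ ∧ tau M (a - b) = T a - T b := by
  have ha' := subset_zspan _ (Finset.mem_coe.2 ha)
  have hb' := subset_zspan _ (Finset.mem_coe.2 hb)
  have hm : a - b ∈ Cfsg.zspanOn (↑(S₀ M W₂) : Set (↥M → ℂ)) {1}ᶜ :=
    mem_zspanOn_one.2 ⟨Isometry.Coherence.zspan_sub ha' hb',
      by rw [Pi.sub_apply, (mem_spec c ha).2.1, (mem_spec c hb).2.1, sub_self]⟩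
  refine ⟨hm, ?_⟩
  rw [← hT.agree _ hm]
  have h := hT.iso.1 (a - b) hm.1 b hb'
  rw [sub_add_cancel] at h
  exact eq_sub_of_add_eq h.symm

/-- The image of a member is orthogonal to the cyclic TI family. -/
theorem orth {ζ : ↥M → ℂ} (hζ : ζ ∈ S₀ M W₂) (η : (↥(W₁ ⊔ W₂) →* ℂˣ) → (G → ℂ))
    (hη : Cfsg.IsCyclicTIFamily W₁ W₂ η) (ω : ↥(W₁ ⊔ W₂) →* ℂˣ) :
    Cfsg.classInner (T ζ) (η ω) = 0 := by
  classical
  haveI := PrimeDade.Instance.kernel_normal M
  haveI := c.central.normal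
  have hζ' : Cfsg.conjFun ζ ∈ S₀ M W₂ := conj_mem_layer hζ
  have hne : Cfsg.conjFun ζ ≠ ζ := by
    intro e
    have h0 := Characters.Indicator.eq_oneChar_of_real
      (c.odd.of_dvd_nat M.card_subgroup_dvd_card) ⟨ζ, (mem_spec c hζ).1⟩ (fun g => by
        rw [← Complex.conj_eq_iff_im]; exact congrFun e g)
    have h2 : ζ 1 = 1 := congrArg (fun χ : Cfsg.IrrCharacter ↥M => (χ : ↥M → ℂ) 1) h0
    rw [(mem_spec c hζ).2.1] at h2
    have h3 := three_le₁ c
    have : Nat.card W₁ = 1 := by exact_mod_cast h2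
    omega
  obtain ⟨hm, he⟩ := diff_mem c hT hζ hζ'
  obtain ⟨hgen, hsupp⟩ := span_supp c hm
  have h0 := PF11.Tau.orth_small hη c.selfNormalizing (three_le₁ c) (three_le₂ c)
    (θ := tau M (ζ - Cfsg.conjFun ζ)) (tau_gen c hgen hsupp) (fun w h₁ h₂ => by
      have hA := c.cyclic_mem _ w.2 h₁ h₂
      have hwM : (w : G) ∈ M := sup_le c.le₁ c.le₂ w.2
      have hv := Isometry.Dade.dadeIsometry_coset c.dade (gen_classFun hgen) ⟨w, hwM⟩ hA
        (u := 1) (one_mem _)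
      rw [mul_one] at hv
      refine hv.trans ((span_facts c hm.1).2 _ fun hK => h₂ ?_)
      have hW : (⟨w, hwM⟩ : ↥M) ∈ W₁.subgroupOf M ⊔ W₂.subgroupOf M := by
        rw [← Subgroup.subgroupOf_sup c.le₁ c.le₂]; exact w.2
      exact (c.central.plike.mem_K_iff ⟨_, hW⟩).1 hK)
    (n := 2) (by
      rw [he, classInner_sub_left, classInner_sub_right, classInner_sub_right, T_inner c hT hζ hζ,
        T_inner c hT hζ hζ', T_inner c hT hζ' hζ, T_inner c hT hζ' hζ', if_pos rfl, if_pos rfl,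
        if_neg hne, if_neg hne.symm]
      norm_num) le_rfl ω
  rw [he, classInner_sub_left, sub_eq_zero] at h0
  have hort : Cfsg.classInner (T ζ) (T (Cfsg.conjFun ζ)) = 0 := by
    rw [T_inner c hT hζ hζ', if_neg hne.symm]
  rcases signed_cases (T_signed c hT hζ) (hη.irr_or_neg ω) with h | ⟨ε, hε, e1, h⟩
  · exact h
  exfalso
  rcases signed_cases (T_signed c hT hζ') (hη.irr_or_neg ω) with h' | ⟨ε', hε', e2, h'⟩
  · rw [h, h'] at h0
    rcases hε with rfl | rfl <;> norm_num at h0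
  · rw [e1, e2, classInner_smul_left, classInner_smul_right, hη.orthonormal, if_pos rfl] at hort
    rcases hε with rfl | rfl <;> rcases hε' with rfl | rfl <;> norm_num at hort

/-- The coefficient at the image of `ζ` when the norm is small against the number of members. -/
theorem inner_eq {ζ : ↥M → ℂ} (hζ : ζ ∈ S₀ M W₂) {f : ↥M → ℂ}
    (hf : Cfsg.IsGeneralizedCharacter ↥M f) (hs : Supp M f)
    (hoth : ∀ ξ ∈ S₀ M W₂, ξ ≠ ζ → Cfsg.classInner f ξ = 0) {a m : ℤ}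
    (ha : Cfsg.classInner f ζ = (a : ℂ)) (hm : Cfsg.classInner f f = (m : ℂ))
    (hlt : m + 2 * |a| < a ^ 2 + ((S₀ M W₂).card : ℤ)) (hle : a ^ 2 ≤ m) :
    Cfsg.classInner (T ζ) (tau M f) = Cfsg.classInner ζ f := by
  classical
  have hv := tau_gen c hf hs
  have hTgen : ∀ ξ ∈ S₀ M W₂, Cfsg.IsGeneralizedCharacter G (T ξ) := fun ξ h =>
    hT.iso.2.2.2 ξ (subset_zspan _ (Finset.mem_coe.2 h))
  set b := fun ξ : ↥M → ℂ => PF11.Tau.coef (tau M f) (T ξ) with hb
  have hb' : ∀ ξ ∈ S₀ M W₂, Cfsg.classInner (tau M f) (T ξ) = (b ξ : ℂ) := fun ξ h =>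
    PF11.Tau.coef_spec hv (hTgen ξ h)
  have hc : ∀ ξ ∈ S₀ M W₂, ξ ≠ ζ → b ξ = b ζ - a := by
    intro ξ h hne
    obtain ⟨hm', he⟩ := diff_mem c hT h hζ
    have e := tau_inner c (gen_classFun hf) hs (gen_classFun (span_supp c hm').1)
    rw [he, classInner_sub_right, classInner_sub_right, hb' ξ h, hb' ζ hζ, hoth ξ h hne, ha] at e
    have : ((b ξ - b ζ : ℤ) : ℂ) = ((-a : ℤ) : ℂ) := by push_cast; linear_combination e
    have := Int.cast_injective this
    omega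
  have hsum := (PF11.Tau.bessel_int (S₀ M W₂) T b (v := tau M f)
    (fun i hi j hj hij => by rw [T_inner c hT hi hj, if_neg hij])
    (fun i hi => by rw [T_inner c hT hi hi, if_pos rfl]) hb'
    (n := m) (by rw [tau_inner c (gen_classFun hf) hs (gen_classFun hf), hm])).1
  rw [← Finset.add_sum_erase _ _ hζ, Finset.sum_congr rfl (g := fun _ => (b ζ - a) ^ 2)
    (fun ξ hξ => by rw [hc ξ (Finset.mem_erase.1 hξ).2 (Finset.mem_erase.1 hξ).1]),
    Finset.sum_const, Finset.card_erase_of_mem hζ, nsmul_eq_mul,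
    Nat.cast_sub (Finset.card_pos.2 ⟨ζ, hζ⟩), Nat.cast_one] at hsum
  have key : b ζ = a := by
    by_contra hne
    set e := b ζ - a with hedef
    have h1 : 1 ≤ |e| := Int.one_le_abs (sub_ne_zero.2 hne)
    have h2 : b ζ = e + a := by omega
    rw [h2] at hsum
    have h3 : -(|a| * |e|) ≤ a * e := by rw [← abs_mul]; exact neg_abs_le _
    have h4 : e ^ 2 = |e| ^ 2 := (sq_abs e).symm
    have h6 : m + 2 * |a| - a ^ 2 < ((S₀ M W₂).card : ℤ) := by linarith
    have h7 : 0 ≤ |a| := abs_nonneg a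
    have h8 : 2 * |a| ≤ ((S₀ M W₂).card : ℤ) := by linarith
    have h9 : 0 ≤ (|e| - 1) * (((S₀ M W₂).card : ℤ) * (|e| + 1) - 2 * |a|) :=
      mul_nonneg (by linarith) (by nlinarith)
    nlinarith
  rw [← classInner_conj_symm (tau M f) (T ζ), hb' ζ hζ, key, ← classInner_conj_symm f ζ, ha]

omit hT in
theorem card_eq {μ : ↥M → ℂ} (hres : Cfsg.IsIrrCharacter ↥(derivedIn M) fun k => μ k) {d : ℕ}
    (hd : μ 1 = (d : ℂ)) (hd1 : d ≠ 1) : Nat.card W₁ * (S₀ M W₂).card + 1 = d ^ 2 := by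
  haveI := PrimeDade.Instance.kernel_normal M
  have h := Central.card_layer_degree c.central hres
    (fun e => hd1 (by rw [OneMemClass.coe_one, hd] at e; exact_mod_cast e))
    (d := d) (by rw [OneMemClass.coe_one, hd])
  rwa [card₁ c] at h

omit hT in
theorem card_bounds {μ : ↥M → ℂ} (hres : Cfsg.IsIrrCharacter ↥(derivedIn M) fun k => μ k)
    {d n : ℕ} {δ : ℤ} (hd : μ 1 = (d : ℂ)) (hδ : δ = 1 ∨ δ = -1)
    (hdn : (d : ℤ) = δ + n * Nat.card W₁) (hn : 2 ≤ n) :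
    2 + 2 * (n : ℤ) < (S₀ M W₂).card ∧ (Nat.card W₁ : ℤ) + 3 < 1 + (S₀ M W₂).card := by
  have hq := three_le₁ c
  have hq' : (3 : ℤ) ≤ Nat.card W₁ := by exact_mod_cast hq
  have hn' : (2 : ℤ) ≤ n := by exact_mod_cast hn
  have h := card_eq c hres hd (by
    intro e; subst e
    push_cast at hdn
    rcases hδ with rfl | rfl <;> nlinarith)
  have h' : (Nat.card W₁ : ℤ) * (S₀ M W₂).card + 1 = (δ + n * Nat.card W₁) ^ 2 := by
    rw [← hdn]; exact_mod_cast h
  have hδ2 : δ * δ = 1 := by rcases hδ with rfl | rfl <;> norm_num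
  have hN : ((S₀ M W₂).card : ℤ) = n * (2 * δ + n * Nat.card W₁) := by
    refine mul_left_cancel₀ (show (Nat.card W₁ : ℤ) ≠ 0 by omega) ?_
    linear_combination h' + hδ2
  rw [hN]
  have hδ1 : -1 ≤ δ := by rcases hδ with rfl | rfl <;> norm_num
  have h6 : 6 ≤ (n : ℤ) * Nat.card W₁ := by nlinarith
  constructor <;> nlinarith [mul_le_mul_of_nonneg_left hδ1 (show (0 : ℤ) ≤ n by omega),
    mul_le_mul_of_nonneg_left h6 (show (0 : ℤ) ≤ n by omega),
    mul_le_mul_of_nonneg_right (show (4 : ℤ) ≤ n * n by nlinarith) (show (0 : ℤ) ≤ Nat.card W₁ by omega)]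

/-- The relation for the combination `μ - δ κ - n ζ`. -/
theorem alpha_inner {ζ : ↥M → ℂ} (hζ : ζ ∈ S₀ M W₂) {μ κ : ↥M → ℂ}
    (hμ : Cfsg.IsIrrCharacter ↥M μ) (hκ : Cfsg.IsIrrCharacter ↥M κ)
    (hres : Cfsg.IsIrrCharacter ↥(derivedIn M) fun k => μ k) {d n : ℕ} {δ : ℤ}
    (hd : μ 1 = (d : ℂ)) (hκ1 : κ 1 = 1) (hδ : δ = 1 ∨ δ = -1)
    (hdn : (d : ℤ) = δ + n * Nat.card W₁) (hn : 2 ≤ n)
    (hW : ∀ x : ↥M, (x : G) ∈ W₁ → x ≠ 1 → μ x = (δ : ℂ) * κ x) :
    Cfsg.classInner (T ζ) (tau M (μ - (δ : ℂ) • κ - (n : ℂ) • ζ)) =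
      Cfsg.classInner ζ (μ - (δ : ℂ) • κ - (n : ℂ) • ζ) := by
  classical
  haveI := PrimeDade.Instance.kernel_normal M
  have hq : (3 : ℤ) ≤ Nat.card W₁ := by exact_mod_cast three_le₁ c
  have hn' : (2 : ℤ) ≤ n := by exact_mod_cast hn
  have hnq : 2 * (Nat.card W₁ : ℤ) ≤ n * Nat.card W₁ := by nlinarith
  have hd2 : d ≠ 1 ∧ d ≠ Nat.card W₁ := by
    constructor <;> intro e <;> rcases hδ with rfl | rfl <;> omega
  have ne1 : μ ≠ κ := fun e => hd2.1 (by
    have := congrFun e 1; rw [hd, hκ1] at this; exact_mod_cast this)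
  have ne2 : ∀ ξ ∈ S₀ M W₂, μ ≠ ξ ∧ κ ≠ ξ := fun ξ hξ => ⟨fun e => hd2.2 (by
      have := congrFun e 1; rw [hd, (mem_spec c hξ).2.1] at this; exact_mod_cast this),
    fun e => by
      have := congrFun e 1
      rw [hκ1, (mem_spec c hξ).2.1] at this
      have : Nat.card W₁ = 1 := by exact_mod_cast this.symm
      omega⟩
  have hζi := (mem_spec c hζ).1
  set f := μ - (δ : ℂ) • κ - (n : ℂ) • ζ with hfdef
  have hf : Cfsg.IsGeneralizedCharacter ↥M f := gen_sub (gen_sub (gen_of_irr hμ)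
    (gen_intCast_smul (gen_of_irr hκ) δ))
    (by simpa using gen_intCast_smul (gen_of_irr hζi) (n : ℤ))
  have hfi : ∀ ξ, Cfsg.IsIrrCharacter ↥M ξ → Cfsg.classInner f ξ =
      (if μ = ξ then 1 else 0) - (δ : ℂ) * (if κ = ξ then 1 else 0) -
        (n : ℂ) * (if ζ = ξ then 1 else 0) := fun ξ hξ => by
    rw [hfdef, classInner_sub_left, classInner_sub_left, classInner_smul_left, classInner_smul_left,
      classInner_irr_eq hμ hξ, classInner_irr_eq hκ hξ, classInner_irr_eq hζi hξ]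
  refine inner_eq c hT hζ hf (supp_of c (gen_classFun hf) ?_ fun x hx hx1 => ?_)
    (fun ξ hξ hne => ?_) (a := -(n : ℤ)) (m := 2 + (n : ℤ) ^ 2) ?_ ?_ ?_ (by rw [neg_sq]; linarith)
  · simp only [hfdef, Pi.sub_apply, Pi.smul_apply, smul_eq_mul, hd, hκ1, (mem_spec c hζ).2.1]
    have : ((d : ℤ) : ℂ) = ((δ + n * Nat.card W₁ : ℤ) : ℂ) := by rw [hdn]
    push_cast at this
    linear_combination this
  · simp only [hfdef, Pi.sub_apply, Pi.smul_apply, smul_eq_mul]
    have hxK : x ∉ derivedIn M := fun hK => hx1 (by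
      have h : x ∈ derivedIn M ⊓ W₁.subgroupOf M := ⟨hK, hx⟩
      rw [c.central.plike.inf_eq] at h
      exact Subgroup.mem_bot.1 h)
    rw [(mem_spec c hζ).2.2 x hxK, hW x hx hx1, mul_zero, sub_zero, sub_self]
  · rw [hfi ξ (mem_spec c hξ).1, if_neg (ne2 ξ hξ).1, if_neg (ne2 ξ hξ).2, if_neg hne.symm]
    ring
  · rw [hfi ζ hζi, if_neg (ne2 ζ hζ).1, if_neg (ne2 ζ hζ).2, if_pos rfl]
    push_cast; ring
  · conv_lhs => arg 2; rw [hfdef]
    rw [classInner_sub_right, classInner_sub_right, classInner_smul_right, classInner_smul_right,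
      hfi μ hμ, hfi κ hκ, hfi ζ hζi, if_pos rfl, if_neg ne1.symm, if_neg (ne2 ζ hζ).1.symm,
      if_neg ne1, if_pos rfl, if_neg (ne2 ζ hζ).2.symm, if_neg (ne2 ζ hζ).1, if_neg (ne2 ζ hζ).2,
      if_pos rfl, map_intCast, map_natCast]
    have hδ2 : (δ : ℂ) * δ = 1 := by rcases hδ with rfl | rfl <;> norm_num
    push_cast
    linear_combination hδ2
  · rw [abs_neg, abs_of_nonneg (by omega : (0 : ℤ) ≤ (n : ℤ)), neg_sq]
    linarith [(card_bounds c hres hd hδ hdn hn).1]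

omit hT in
theorem derived_le : W₂.subgroupOf M ≤ ⁅derivedIn M, derivedIn M⁆ := by
  rw [← Subgroup.map_subtype_commutator, c.central.derived,
    Subgroup.map_subgroupOf_eq_of_le c.central.plike.le]

/-- The relation for `Ind 1 - ζ`. -/
theorem base_inner {ζ : ↥M → ℂ} (hζ : ζ ∈ S₀ M W₂)
    (hζm : ζ ∈ Cfsg.inducedIrrAbove (derivedIn M) ⊥) :
    Cfsg.classInner (T ζ) (tau M (Cfsg.indFun (derivedIn M) (fun _ => 1) - ζ)) =
      Cfsg.classInner ζ (Cfsg.indFun (derivedIn M) (fun _ => 1) - ζ) := by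
  classical
  haveI := PrimeDade.Instance.kernel_normal M
  obtain ⟨hζi, hζ1, hζ0⟩ := mem_spec c hζ
  obtain ⟨ψ, δ, n, d, μ, ξ₁, D⟩ := Local.exists_data c.central.plike
    (c.odd.of_dvd_nat M.card_subgroup_dvd_card) (derived_le c) hζi hζm (by rw [hζ1, card₁ c])
  obtain ⟨θ, hθ⟩ := PF11.PLike.exists_attached c.central.plike
  obtain ⟨δ', A⟩ := hθ
  obtain ⟨e, -⟩ := PF11.PLike.identify c.central.plike A D.mu_irr (c := (δ : ℂ))
    (by rcases D.sign with h | h <;> simp [h]) D.mu_W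
  have hres : Cfsg.IsIrrCharacter ↥(derivedIn M) fun k => μ k := by
    rw [e]; exact PF11.PLike.restrict_irr c.central.plike A ψ
  set b := Cfsg.indFun (derivedIn M) (fun _ => (1 : ℂ)) with hb
  have hbgen : Cfsg.IsGeneralizedCharacter ↥M b :=
    gen_of_isCharacter (Induced.Character.isCharacter_indFun (derivedIn M)
      (IsCharacter_of_isIrrCharacter (oneChar ↥(derivedIn M)).2))
  have hbq : ∀ k : ↥(derivedIn M), b k = (Nat.card W₁ : ℂ) := fun k => by
    rw [hb, Local.base_apply, if_pos k.2, c.central.plike.index_eq, card₁ c]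
  have hbS : ∀ ξ ∈ S₀ M W₂, Cfsg.classInner b ξ = 0 := by
    intro ξ hξ
    obtain ⟨τ₀, h1, -, h3, rfl, -, -⟩ := Central.layer_spec c.central hξ
    rw [frobenius_reciprocity' _ _ (isClassFunction_indFun _ _),
      show (fun k : ↥(derivedIn M) => b k) =
        (Nat.card W₁ : ℂ) • (fun _ => (1 : ℂ)) from funext fun k => by simp [hbq k],
      classInner_smul_left, classInner_irr_eq (χ := fun _ : ↥(derivedIn M) => (1 : ℂ)) (oneChar _).2 h1,
      if_neg (Ne.symm h3), mul_zero]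
  refine inner_eq c hT hζ (gen_sub hbgen (gen_of_irr hζi)) (supp_of_K c ?_ fun x hx => ?_)
    (fun ξ hξ hne => ?_) (a := -1) (m := (Nat.card W₁ : ℤ) + 1) ?_ ?_ ?_
    (by rw [neg_sq, one_pow]; linarith [Int.natCast_nonneg (Nat.card W₁)])
  · rw [Pi.sub_apply, hζ1, ← OneMemClass.coe_one (derivedIn M), hbq, sub_self]
  · rw [Pi.sub_apply, hζ0 x hx, hb, Local.base_apply, if_neg hx, sub_zero]
  · rw [classInner_sub_left, hbS ξ hξ, classInner_irr_eq hζi (mem_spec c hξ).1, if_neg hne.symm,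
      sub_zero]
  · rw [classInner_sub_left, hbS ζ hζ, classInner_irr_eq hζi hζi, if_pos rfl]
    norm_num
  · rw [classInner_sub_left, classInner_sub_right, classInner_sub_right, hbS ζ hζ,
      ← classInner_conj_symm b ζ, hbS ζ hζ, map_zero, classInner_irr_eq hζi hζi, if_pos rfl,
      hb, D.base_base, card₁ c]
    push_cast; ring
  · have h := (card_bounds c hres D.mu_one D.sign (by rw [← card₁ c]; exact D.degree_eq) D.two_le_n).2
    rw [abs_neg, abs_one, neg_sq, one_pow]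
    linarith

omit hT in
/-- `PF10.Key` holds. -/
theorem exists_key {ζ : ↥M → ℂ} (hζi : Cfsg.IsIrrCharacter ↥M ζ)
    (hζm : ζ ∈ Cfsg.inducedIrrAbove (derivedIn M) ⊥) (hζ1 : ζ 1 = (Nat.card W₁ : ℂ)) :
    ∃ χ, PF10.Key M W₁ W₂ ζ χ := by
  classical
  haveI := PrimeDade.Instance.kernel_normal M
  have hidx : (derivedIn M).index = Nat.card W₁ := by rw [c.central.plike.index_eq, card₁ c]
  have hζ : ζ ∈ S₀ M W₂ := by
    obtain ⟨θ₀, h0, h0n, -, e⟩ := hζm
    have h01 : θ₀ 1 = 1 := by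
      have h := hζ1
      rw [e, Induced.Basic.indFun_one, hidx] at h
      exact mul_left_cancel₀ (subgroup_card_ne_zero W₁) (by rw [h, mul_one])
    rw [e]
    exact Central.mem_layer_of_linear c.central h0 h01 h0n
  obtain ⟨T, hT⟩ := exists_coh c hζ
  obtain ⟨μ₀, δ₀, A⟩ := PF11.PLike.exists_attached c.central.plike
  refine ⟨T ζ, hζi, hζm, hζ1, T_signed c hT hζ, fun η hη ω => orth c hT hζ η hη ω, ?_,
    base_inner c hT hζ hζm, ?_⟩
  · intro θ hθ hne
    by_cases h1 : θ 1 = 1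
    · have hm := Central.mem_layer_of_linear c.central hθ h1 hne
      obtain ⟨hd, he⟩ := diff_mem c hT hm hζ
      rw [h1, one_smul, he, classInner_sub_right, classInner_sub_right, T_inner c hT hζ hm,
        T_inner c hT hζ hζ, classInner_irr_eq hζi (mem_spec c hm).1, classInner_irr_eq hζi hζi]
    · obtain ⟨ψ, hψ, hψ1, rfl⟩ := Central.exists_col c.central A hθ h1
      obtain ⟨d, hd0, hddvd, hd⟩ := Characters.Degree.exists_degree_dvd ⟨μ₀ ψ, A.irr ψ⟩
      have hd' : μ₀ ψ 1 = (d : ℂ) := hd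
      have hdodd : Odd d := (c.odd.of_dvd_nat M.card_subgroup_dvd_card).of_dvd_nat hddvd
      obtain ⟨δ, hδ, hδe⟩ : ∃ δ : ℤ, (δ = 1 ∨ δ = -1) ∧ δ₀ ψ = (δ : ℂ) := by
        rcases A.sign ψ with e | e
        · exact ⟨1, Or.inl rfl, by simpa using e⟩
        · exact ⟨-1, Or.inr rfl, by simpa using e⟩
      obtain ⟨N, hN⟩ := A.cong ψ
      rw [hd', hδe, card₁ c] at hN
      have hNint : (d : ℤ) = δ + N * Nat.card W₁ := by
        have : ((d : ℤ) : ℂ) = ((δ + N * Nat.card W₁ : ℤ) : ℂ) := by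
          push_cast; linear_combination hN
        exact_mod_cast this
      have hd1 : d ≠ 1 := fun e => h1 (by
        show μ₀ ψ ((1 : ↥(derivedIn M)) : ↥M) = 1
        rw [OneMemClass.coe_one, hd', e, Nat.cast_one])
      have hN2 : 2 ≤ N := by
        obtain ⟨a, ha⟩ := hdodd
        obtain ⟨b, hb⟩ := c.odd.of_dvd_nat W₁.card_subgroup_dvd_card
        have hq := three_le₁ c
        have hpos : 0 < N := by
          by_contra hle
          have : N * (Nat.card W₁ : ℤ) ≤ 0 := mul_nonpos_of_nonpos_of_nonneg (by omega) (by omega)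
          rcases hδ with e | e <;> omega
        rcases eq_or_ne N 1 with e | e
        · exfalso
          rw [e, one_mul] at hNint
          rcases hδ with e' | e' <;> omega
        · omega
      obtain ⟨n, rfl⟩ : ∃ n : ℕ, N = (n : ℤ) := ⟨N.toNat, (Int.toNat_of_nonneg (by omega)).symm⟩
      haveI := CyclicTI.finite_hom (G := ↥M) (W₁ := W₁.subgroupOf M) (W₂ := W₂.subgroupOf M)
      haveI := Fintype.ofFinite (↥(W₁.subgroupOf M ⊔ W₂.subgroupOf M) →* ℂˣ)
      set P := Finset.univ.filter fun φ : ↥(W₁.subgroupOf M ⊔ W₂.subgroupOf M) →* ℂˣ => IsP φ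
        with hPdef
      have hP : ∀ φ, φ ∈ P ↔ IsP φ := fun φ => by simp [hPdef]
      have hPc : (P.card : ℂ) = (Nat.card W₁ : ℂ) := by
        rw [hPdef, CyclicTI.card_isP c.central.plike.selfNormalizing, card₁ c]
      have hb : Cfsg.indFun (derivedIn M) (fun _ => (1 : ℂ)) = ∑ φ ∈ P, μ₀ φ := by
        have h := PF11.PLike.column c.central.plike A P hP (ψ := 1)
        rw [show (fun k : ↥(derivedIn M) => μ₀ 1 k) = fun _ => 1 from by
          rw [PF11.PLike.map_one' c.central.plike A]] at h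
        rw [h]
        exact Finset.sum_congr rfl fun φ _ => by
          rw [show φ * (1 : ↥(W₁.subgroupOf M ⊔ W₂.subgroupOf M) →* ℂˣ) = φ from
            MonoidHom.ext fun w => by simp]
      have hdc : (d : ℂ) = (δ : ℂ) + (n : ℂ) * (Nat.card W₁ : ℂ) := by
        have : ((d : ℤ) : ℂ) = ((δ + (n : ℤ) * Nat.card W₁ : ℤ) : ℂ) := by rw [hNint]
        simpa using this
      have hsum : Cfsg.indFun (derivedIn M) (fun k : ↥(derivedIn M) => μ₀ ψ k) -
          μ₀ ψ ((1 : ↥(derivedIn M)) : ↥M) • ζ =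
          (∑ φ ∈ P, (μ₀ (φ * ψ) - (δ : ℂ) • μ₀ φ - (n : ℂ) • ζ)) +
            (δ : ℂ) • (Cfsg.indFun (derivedIn M) (fun _ => 1) - ζ) := by
        rw [PF11.PLike.column c.central.plike A P hP, hb, OneMemClass.coe_one, hd', hdc,
          Finset.sum_sub_distrib, Finset.sum_sub_distrib, ← Finset.smul_sum, Finset.sum_const,
          ← Nat.cast_smul_eq_nsmul ℂ, hPc]
        module
      show Cfsg.classInner (T ζ) (tau M (Cfsg.indFun (derivedIn M) (fun k : ↥(derivedIn M) => μ₀ ψ k) -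
          μ₀ ψ ((1 : ↥(derivedIn M)) : ↥M) • ζ)) = _
      rw [hsum, tau_add, tau_sum, tau_smul, classInner_add_right, classInner_sum_right,
        classInner_smul_right, base_inner c hT hζ hζm]
      conv_rhs => rw [classInner_add_right, classInner_sum_right, classInner_smul_right]
      congr 1
      refine Finset.sum_congr rfl fun φ hφ => ?_
      have hPφ := (hP φ).1 hφ
      refine alpha_inner c hT hζ (A.irr _) (A.irr _) (PF11.PLike.restrict_irr c.central.plike A _)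
        (d := d) (n := n) ?_ ?_ hδ hNint (by omega) fun x hx hx1 => ?_
      · rw [PF11.PLike.agree c.central.plike A hPφ (one_mem _), hd']
      · exact (PF11.PLike.row c.central.plike A hPφ).2 1 (one_mem _)
      · have hxW : x ∈ W₁.subgroupOf M := hx
        have hx2 : x ∉ W₂.subgroupOf M := fun h2 => hx1
          (CyclicTI.eq_one_of_mem c.central.plike.selfNormalizing hxW h2)
        have e1 := A.val (φ * ψ) ⟨x, Subgroup.mem_sup_left hxW⟩ hx2
        have e2 := A.val φ ⟨x, Subgroup.mem_sup_left hxW⟩ hx2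
        rw [(A.diff (φ * ψ) ψ (fun w hw => by rw [MonoidHom.mul_apply, hPφ w hw, one_mul])).1,
          hδe, MonoidHom.mul_apply, hψ _ hxW, mul_one] at e1
        rw [(PF11.PLike.row c.central.plike A hPφ).1, one_mul] at e2
        rw [e1, e2]
  · intro ψ δ n d μ ξ D
    obtain ⟨e, -⟩ := PF11.PLike.identify c.central.plike A D.mu_irr (c := (δ : ℂ))
      (by rcases D.sign with h | h <;> simp [h]) D.mu_W
    refine alpha_inner c hT hζ D.mu_irr (oneChar ↥M).2
      (by rw [e]; exact PF11.PLike.restrict_irr c.central.plike A ψ) D.mu_one rfl D.sign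
      (by rw [← card₁ c]; exact D.degree_eq) D.two_le_n fun x hx hx1 => ?_
    have hxW : x ∈ W₁.subgroupOf M := hx
    have hx2 : x ∉ W₂.subgroupOf M := fun h2 => hx1
      (CyclicTI.eq_one_of_mem c.central.plike.selfNormalizing hxW h2)
    have e1 := D.mu_W ⟨x, Subgroup.mem_sup_left hxW⟩ hx2
    rw [D.isQ _ hxW, Units.val_one] at e1
    exact e1

end Cfsg.Agent.Lib.OddOrder.PF10.Residual.Extraspecial
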