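import Cfsg.Agent.Lib.OddOrder.PF10.TypeVGeneric
import Cfsg.Agent.Lib.OddOrder.PF10.Residual.Extraspecial
import Cfsg.Agent.Lib.PGroups.Omega

/-!
# Peterfalvi (10.10): `PF10.Key` in the residual case with `M'' = W₂`
-/

set_option autoImplicit false
set_option linter.style.haveILetI false
set_option linter.unusedSectionVars false

namespace Cfsg.Agent.Lib.OddOrder.PF10.Residual.Keys

open scoped commutatorElement
open Cfsg.Agent.Lib
open Cfsg.Agent.Lib.OddOrder.Interface
open Cfsg.Agent.Lib.OddOrder.Interface.PF11 (derivedIn)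

universe u

variable {G : Type u} [_root_.Group G] [Fintype G] {M W₁ U W₂ : Subgroup G}

/-- For order `p ^ 3` the derived subgroup of `M'` is `W₂`. -/
theorem derived_eq_of_cube (c : TypeV.Ctx M W₁ U W₂) {p : ℕ} (r : TypeV.Residual M W₁ p)
    (h3 : Nat.card ↥(derivedIn M) = p ^ 3) :
    ⁅derivedIn M, derivedIn M⁆ = W₂.subgroupOf M := by
  haveI : Fact p.Prime := ⟨r.prime⟩
  have hnc : ¬ IsMulCommutative ↥(derivedIn M) := by
    intro h
    refine r.nonabelian (Subgroup.commutator_le.2 fun a ha b hb => ?_)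
    rw [Subgroup.mem_bot, commutatorElement_eq_one_iff_mul_comm]
    exact congrArg Subtype.val (h.is_comm.comm (⟨a, ha⟩ : ↥(derivedIn M)) ⟨b, hb⟩)
  set Z := Subgroup.center ↥(derivedIn M) with hZ
  obtain ⟨k, hk, hcard⟩ := IsPGroup.card_center_eq_prime_pow h3 (by norm_num)
  have hidx := Z.card_mul_index
  rw [hcard, h3] at hidx
  have hk1 : k = 1 := by
    by_contra hne
    apply hnc
    have hdvd : Z.index ∣ p := by
      refine (mul_dvd_mul_iff_left (pow_ne_zero 2 r.prime.ne_zero)).1 ?_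
      rw [← pow_succ, show 2 + 1 = 3 from rfl, ← hidx]
      exact mul_dvd_mul (pow_dvd_pow p (by omega)) dvd_rfl
    haveI : IsCyclic (↥(derivedIn M) ⧸ Z) := isCyclic_of_card_dvd_prime (p := p) (by
      rwa [← Subgroup.index_eq_card])
    exact isMulCommutative_of_isCyclic_quotient_center_self _
  subst hk1
  rw [pow_one] at hcard hidx
  have hq : Nat.card (↥(derivedIn M) ⧸ Z) = p ^ 2 := by
    rw [← Subgroup.index_eq_card]
    exact Nat.eq_of_mul_eq_mul_left r.prime.pos (by rw [hidx]; ring)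
  have hle : commutator ↥(derivedIn M) ≤ Z := by
    rw [← QuotientGroup.ker_mk' Z, commutator_def, Subgroup.commutator_le]
    intro a _ b _
    rw [MonoidHom.mem_ker, map_commutatorElement, commutatorElement_eq_one_iff_mul_comm]
    exact (IsPGroup.isMulCommutative_of_card_eq_prime_sq hq).is_comm.comm _ _
  have hle' : ⁅derivedIn M, derivedIn M⁆ ≤ Z.map (derivedIn M).subtype := by
    rw [← Subgroup.map_subtype_commutator]
    exact Subgroup.map_mono hle
  refine (Subgroup.eq_of_le_of_card_ge c.W₂_le_commutator ?_).symm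
  have hcd : Nat.card ↥⁅derivedIn M, derivedIn M⁆ ≤ p := by
    refine (Nat.le_of_dvd Nat.card_pos (Subgroup.card_dvd_of_le hle')).trans (le_of_eq ?_)
    rw [← hcard]
    exact (Nat.card_congr (Z.equivMapOfInjective _ (derivedIn M).subtype_injective).toEquiv).symm
  refine hcd.trans (Nat.le_of_dvd Nat.card_pos ?_)
  have h := Subgroup.card_dvd_of_le (c.pLike.le : W₂.subgroupOf M ≤ derivedIn M)
  rw [h3] at h
  obtain ⟨i, -, hi⟩ := (Nat.dvd_prime_pow r.prime).1 h
  rw [hi]
  refine dvd_pow_self p fun h0 => c.pLike.ne₂ (Subgroup.card_eq_one.1 ?_)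
  rw [hi, h0, pow_zero]

/-- The hypotheses of the extraspecial case. -/
theorem ctx (c : TypeV.Ctx M W₁ U W₂) (hB : PF8.BG16 G) {p : ℕ} (r : TypeV.Residual M W₁ p)
    (hp : (Nat.card W₂).Prime) (hder : ⁅derivedIn M, derivedIn M⁆ = W₂.subgroupOf M) :
    Extraspecial.Ctx M W₁ W₂ := by
  classical
  haveI := Fintype.ofFinite ↥M
  have h := PrimeDade.Instance.hyp c.hG hB c.max c.typeP
  have hcore := ((PF8.TypeP.step_8_5 (G := G)).typeV M c.max W₁ U W₂ c.typeP c.typeV).2.2.2.2.2
  haveI := TypeV.derivedIn_normal M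
  haveI : Fact p.Prime := ⟨r.prime⟩
  have hW : W₂.subgroupOf M ≤ derivedIn M := c.pLike.le
  have hcardW : Nat.card (W₂.subgroupOf M) = Nat.card W₂ :=
    Nat.card_congr (Subgroup.subgroupOfEquivOfLe c.W₂_le).toEquiv
  have hderived : commutator ↥(derivedIn M) = (W₂.subgroupOf M).subgroupOf (derivedIn M) := by
    apply Subgroup.map_injective (derivedIn M).subtype_injective
    rw [Subgroup.map_subtype_commutator, Subgroup.map_subgroupOf_eq_of_le hW, hder]
  have hWp : Nat.card W₂ = p := by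
    have hdvd : Nat.card W₂ ∣ Nat.card ↥(derivedIn M) := hcardW ▸ Subgroup.card_dvd_of_le hW
    obtain ⟨k, hk⟩ := IsPGroup.iff_card.1 r.pGroup
    rw [hk] at hdvd
    exact (Nat.prime_dvd_prime_iff_eq hp r.prime).1 (hp.dvd_of_dvd_pow hdvd)
  have hle : commutator ↥(derivedIn M) ≤ Subgroup.center ↥(derivedIn M) :=
    PGroups.le_center_of_normal_card_prime r.pGroup _ (by
      rw [hderived, Nat.card_congr (Subgroup.subgroupOfEquivOfLe hW).toEquiv, hcardW, hWp])
  refine ⟨c.W₁_le, c.W₂_le, c.hG.1, ⟨c.pLike, hcardW.symm ▸ hp, hderived, ?_, ?_⟩,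
    c.typeP.selfNormalizing, h.dade, h.mem_cyclic, fun x hx hx1 =>
      PrimeDade.Instance.derived_subset_typeA0 c.typeP hcore hx hx1⟩
  · rw [← hderived]
    refine le_antisymm ?_ hle
    set N := (Subgroup.center ↥(derivedIn M)).map (derivedIn M).subtype with hN
    have hNn : N.Normal := inferInstance
    have hKN : ⁅derivedIn M, derivedIn M⁆ ≤ N := by
      rw [← Subgroup.map_subtype_commutator]; exact Subgroup.map_mono hle
    by_contra hnle
    have hlt : ⁅derivedIn M, derivedIn M⁆ < N := lt_of_le_of_ne hKN fun e => hnle (by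
      intro x hx
      have hm : (x : ↥M) ∈ (commutator ↥(derivedIn M)).map (derivedIn M).subtype := by
        rw [Subgroup.map_subtype_commutator, e]
        exact ⟨x, hx, rfl⟩
      exact (Subgroup.mem_map_iff_mem (derivedIn M).subtype_injective).1 hm)
    have htop : N = derivedIn M :=
      ((Subgroup.map_subtype_le _).eq_or_lt).resolve_right fun h' => r.chief ⟨N, hNn, hlt, h'⟩
    refine r.nonabelian (Subgroup.commutator_le.2 fun a ha b hb => ?_)
    have hb' : b ∈ N := by rw [htop]; exact hb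
    obtain ⟨z, hz, rfl⟩ := hb'
    rw [Subgroup.mem_bot, commutatorElement_eq_one_iff_mul_comm]
    exact congrArg Subtype.val (Subgroup.mem_center_iff.1 hz ⟨a, ha⟩)
  · rw [← hder]
    infer_instance

/-- `PF10.Key` when `M'' = W₂`. -/
theorem exists_key_of_derived [Fintype ↥M] (c : TypeV.Ctx M W₁ U W₂) (hB : PF8.BG16 G) {p : ℕ}
    (r : TypeV.Residual M W₁ p) (hp : (Nat.card W₂).Prime)
    (hder : ⁅derivedIn M, derivedIn M⁆ = W₂.subgroupOf M) :
    ∃ ζ χ, PF10.Key M W₁ W₂ ζ χ := by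
  haveI := TypeV.derivedIn_normal M
  haveI := c.nilpotent
  obtain ⟨ζ, hi, hm, h1⟩ := Local.exists_zeta c.pLike inferInstance c.W₂_le_commutator
  rw [Nat.card_congr (Subgroup.subgroupOfEquivOfLe c.W₁_le).toEquiv] at h1
  exact ⟨ζ, Extraspecial.exists_key (ctx c hB r hp hder) hi hm h1⟩

/-- `PF10.Key` when `|M'| = p ^ 3`. -/
theorem exists_key_of_cube [Fintype ↥M] (c : TypeV.Ctx M W₁ U W₂) (hB : PF8.BG16 G) {p : ℕ}
    (r : TypeV.Residual M W₁ p) (hp : (Nat.card W₂).Prime)
    (h3 : Nat.card ↥(derivedIn M) = p ^ 3) : ∃ ζ χ, PF10.Key M W₁ W₂ ζ χ :=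
  exists_key_of_derived c hB r hp (derived_eq_of_cube c r h3)

end Cfsg.Agent.Lib.OddOrder.PF10.Residual.Keys
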