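import Cfsg.Agent.Lib.OddOrder.PF10.Residual.Kernel

/-!
# The characters of `L = K ⋊ W₁` when `K' = Z(K) = W₂` has prime order

The non-linear irreducible characters of `K` are fixed by `L` and have degree `d` with
`d² = [K : K']`; the characters of `L` trivial on `W₂` but not on `K` are induced from linear
characters, so that their number `N` satisfies `q N + 1 = d²`.
-/

set_option autoImplicit false
set_option linter.style.haveILetI false
set_option linter.unusedSectionVars false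

namespace Cfsg.Agent.Lib.OddOrder.PF10.Residual.Central

open Cfsg.Agent.Lib
open Cfsg.Agent.Lib.CyclicTI
open Cfsg.Agent.Lib.Induced.Basic Cfsg.Agent.Lib.Characters.Basic
open Cfsg.Agent.Lib.Clifford.Basic (conjC conjC_apply)
open Cfsg.Agent.Lib.OddOrder.PF11.PLike (Attached)
open Cfsg.Agent.Lib.Isometry.Inflate

universe u

/-- The hypotheses on the kernel. -/
structure Ctx {L : Type u} [_root_.Group L] (K W₁ W₂ : Subgroup L) : Prop where
  plike : IsPLike K W₁ W₂
  prime : (Nat.card W₂).Prime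
  derived : commutator ↥K = W₂.subgroupOf K
  center : Subgroup.center ↥K = W₂.subgroupOf K
  normal : W₂.Normal

variable {L : Type u} [_root_.Group L] [Fintype L] {K W₁ W₂ : Subgroup L} [hK : K.Normal]
  (c : Ctx K W₁ W₂)

include c

theorem card_derived : Nat.card (commutator ↥K) = Nat.card W₂ := by
  rw [c.derived]
  exact Nat.card_congr (Subgroup.subgroupOfEquivOfLe c.plike.le).toEquiv

/-- A non-linear character: vanishing off `W₂`, faithful there. -/
theorem nonlinear {θ : ↥K → ℂ} (hθ : Cfsg.IsIrrCharacter ↥K θ) (h1 : θ 1 ≠ 1) :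
    (∀ k : ↥K, (k : L) ∈ W₂ → θ k = θ 1 → k = 1) ∧ ∀ k : ↥K, (k : L) ∉ W₂ → θ k = 0 := by
  haveI : Fact (Nat.card W₂).Prime := ⟨c.prime⟩
  obtain ⟨h2, h3⟩ := Chars82.PGroupChars.prime_derived (card_derived c)
    (le_of_eq (c.derived.trans c.center.symm)) ⟨θ, hθ⟩ h1
  refine ⟨fun k hk => h2 k ?_, fun k hk => h3 k ?_⟩
  · rw [c.derived]; exact hk
  · rw [c.center]; exact hk

theorem degree_sq {θ : ↥K → ℂ} (hθ : Cfsg.IsIrrCharacter ↥K θ) (h1 : θ 1 ≠ 1) {d : ℕ}
    (hd : θ 1 = (d : ℂ)) : d ^ 2 * Nat.card W₂ = Nat.card K := by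
  have h := (Chars82.PGroupChars.degree_sq_mul_le ⟨θ, hθ⟩ hd).2 fun k hk =>
    (nonlinear c hθ h1).2 k (by rw [c.center] at hk; exact hk)
  rwa [c.center, Nat.card_congr (Subgroup.subgroupOfEquivOfLe c.plike.le).toEquiv] at h

/-- Elements of `W₂` are fixed by conjugation. -/
theorem conj_eq_self {w g : L} (hw : w ∈ W₂) : g * w * g⁻¹ = w := by
  obtain ⟨k, hk, v, hv, rfl⟩ : ∃ k ∈ K, ∃ v ∈ W₁, k * v = g :=
    Subgroup.mem_sup_of_normal_left.mp (c.plike.sup_eq ▸ Subgroup.mem_top g)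
  have hcomm : v * w = w * v := c.plike.selfNormalizing.2.2.2.1 v hv w hw
  have hz : (⟨w, c.plike.le hw⟩ : ↥K) ∈ Subgroup.center ↥K := by rw [c.center]; exact hw
  have hkw : k * w = w * k :=
    congrArg Subtype.val (Subgroup.mem_center_iff.1 hz ⟨k, hk⟩)
  rw [show k * v * w * (k * v)⁻¹ = k * (v * w) * v⁻¹ * k⁻¹ by group, hcomm,
    show k * (w * v) * v⁻¹ * k⁻¹ = k * w * k⁻¹ by group, hkw, mul_inv_cancel_right]

/-- Non-linear characters are fixed by `L`. -/
theorem invariant {θ : ↥K → ℂ} (hθ : Cfsg.IsIrrCharacter ↥K θ) (h1 : θ 1 ≠ 1) (g : L) :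
    conjC K g θ = θ := by
  funext k
  rw [conjC_apply]
  by_cases hk : (k : L) ∈ W₂
  · exact congrArg θ (Subtype.ext (conj_eq_self c hk))
  · rw [(nonlinear c hθ h1).2 k hk, (nonlinear c hθ h1).2 _ ?_]
    intro hm
    apply hk
    have := c.normal.conj_mem _ hm g⁻¹
    simpa [mul_assoc] using this

variable {μ : (↥(W₁ ⊔ W₂) →* ℂˣ) → (L → ℂ)} {δ : (↥(W₁ ⊔ W₂) →* ℂˣ) → ℂ} (A : Attached μ δ)

include A in
/-- A non-linear character is the restriction of a non-trivial column. -/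
theorem exists_col {θ : ↥K → ℂ} (hθ : Cfsg.IsIrrCharacter ↥K θ) (h1 : θ 1 ≠ 1) :
    ∃ ψ, IsQ ψ ∧ ψ ≠ 1 ∧ θ = fun k : ↥K => μ ψ k := by
  obtain ⟨ψ, hψ, e⟩ := Kernel.exists_col c.plike A hθ (invariant c hθ h1)
  refine ⟨ψ, hψ, fun hψ1 => h1 ?_, e⟩
  rw [e, hψ1, PF11.PLike.map_one' c.plike A]

include A in
/-- The non-trivial columns restrict to non-linear characters. -/
theorem col_nonlinear {ψ : ↥(W₁ ⊔ W₂) →* ℂˣ} (hψ : IsQ ψ) (h1 : ψ ≠ 1) : μ ψ 1 ≠ 1 := by
  intro hd
  haveI := c.normal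
  set θ : ↥K → ℂ := fun k => μ ψ k with hθdef
  have hθ : Cfsg.IsIrrCharacter ↥K θ := PF11.PLike.restrict_irr c.plike A ψ
  have h := Kernel.isIrr_indFun c.plike (N := W₂) c.plike.le le_rfl hθ hd
    (fun k hk => by
      refine Chars82.PGroupChars.linear_commutator (IsCharacter_of_isIrrCharacter hθ) hd ?_
      rw [c.derived]; exact hk)
    (Kernel.restrict_ne_one c.plike A hψ h1)
  -- the induced function is not irreducible
  classical
  haveI := finite_hom (G := L) (W₁ := W₁) (W₂ := W₂)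
  haveI := Fintype.ofFinite (↥(W₁ ⊔ W₂) →* ℂˣ)
  haveI := Fintype.ofFinite ↥K
  have e : Cfsg.classInner (Cfsg.indFun K θ) (Cfsg.indFun K θ) = (Nat.card W₁ : ℂ) := by
    have hcol := PF11.PLike.column c.plike A (ψ := ψ)
      (Finset.univ.filter fun φ => IsP φ) (fun φ => by simp)
    rw [hθdef, hcol, classInner_sum_left, Finset.sum_congr rfl fun φ hφ => ?_, Finset.sum_const,
      card_isP c.plike.selfNormalizing, nsmul_eq_mul, mul_one]
    rw [classInner_sum_right, Finset.sum_eq_single φ]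
    · exact classInner_self_irr ⟨_, A.irr _⟩
    · intro b _ hb
      rw [Isometry.Inner.classInner_irr_eq (A.irr _) (A.irr _),
        if_neg fun e => hb (mul_right_cancel (A.inj e)).symm]
    · exact fun hh => absurd hφ hh
  have h' : (1 : ℂ) = (Nat.card W₁ : ℂ) := (classInner_self_irr ⟨_, h⟩).symm.trans e
  exact c.plike.ne₁ (Subgroup.card_eq_one.1 (by exact_mod_cast h'.symm))

/-- The characters of `L` trivial on `W₂` but not on `K`. -/
theorem layer_spec {ξ : L → ℂ} (hξ : ξ ∈ layer K W₂) :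
    ∃ θ : ↥K → ℂ, Cfsg.IsIrrCharacter ↥K θ ∧ θ 1 = 1 ∧ θ ≠ (fun _ => 1) ∧ ξ = Cfsg.indFun K θ ∧
      ξ 1 = (Nat.card W₁ : ℂ) ∧ ∀ x ∉ K, ξ x = 0 := by
  classical
  haveI := c.normal
  haveI := Fintype.ofFinite ↥K
  obtain ⟨hirr, htriv, g, hg, hgne⟩ := mem_layer.1 hξ
  obtain ⟨θ, hθ⟩ := Clifford.Basic.exists_constituent_restrict (N := K) hirr
  have hnz : Cfsg.classInner (fun k : ↥K => ξ k) (θ : ↥K → ℂ) ≠ 0 := hθ
  have hsm := Clifford.Basic.restrict_eq_smul K hirr θ hnz
  have h1 : (θ : ↥K → ℂ) 1 = 1 := by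
    by_contra hne
    have e := hsm (invariant c θ.2 hne)
    obtain ⟨w, hw, hw1⟩ := W₂.bot_or_exists_ne_one.resolve_left c.plike.ne₂
    have ew := congrFun e ⟨w, c.plike.le hw⟩
    have e1 := congrFun e 1
    simp only [Pi.smul_apply, smul_eq_mul, OneMemClass.coe_one] at ew e1
    rw [htriv w hw, e1] at ew
    exact hw1 (congrArg Subtype.val ((nonlinear c θ.2 hne).1 ⟨w, c.plike.le hw⟩ hw
      (mul_left_cancel₀ hnz ew.symm)))
  have hne : (θ : ↥K → ℂ) ≠ fun _ => 1 := by
    intro h0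
    have e := hsm (fun x => by funext k; rw [conjC_apply, h0])
    have eg := congrFun e ⟨g, hg⟩
    have e1 := congrFun e 1
    simp only [Pi.smul_apply, smul_eq_mul, OneMemClass.coe_one, h0] at eg e1
    exact hgne (eg.trans e1.symm)
  have hind := Kernel.isIrr_indFun c.plike (N := W₂) c.plike.le le_rfl θ.2 h1
    (fun k hk => Chars82.PGroupChars.linear_commutator (isCharacter_irr θ) h1
      (by rw [c.derived]; exact hk)) hne
  have heq : ξ = Cfsg.indFun K (θ : ↥K → ℂ) := by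
    by_contra hne'
    apply hnz
    rw [← frobenius_reciprocity' K _ (isClassFunction_irr ⟨ξ, hirr⟩),
      Isometry.Inner.classInner_irr_eq hirr hind, if_neg hne']
  refine ⟨θ, θ.2, h1, hne, heq, ?_, fun x hx => ?_⟩
  · rw [heq, Induced.Basic.indFun_one, h1, mul_one, c.plike.index_eq]
  · rw [heq]; exact indFun_eq_zero_of_not_mem_normal K _ hx

/-- Non-principal linear characters induce into the layer. -/
theorem mem_layer_of_linear {θ : ↥K → ℂ} (hθ : Cfsg.IsIrrCharacter ↥K θ) (h1 : θ 1 = 1)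
    (hne : θ ≠ fun _ => 1) : Cfsg.indFun K θ ∈ layer K W₂ := by
  classical
  haveI := c.normal
  haveI := Fintype.ofFinite ↥K
  have hlin : ∀ k : ↥K, (k : L) ∈ W₂ → θ k = 1 := fun k hk =>
    Chars82.PGroupChars.linear_commutator (IsCharacter_of_isIrrCharacter hθ) h1
      (by rw [c.derived]; exact hk)
  have hind := Kernel.isIrr_indFun c.plike (N := W₂) c.plike.le le_rfl hθ h1 hlin hne
  refine mem_layer.2 ⟨hind, fun w hw => ?_, ?_⟩
  · rw [Induced.Basic.indFun_one, h1, mul_one,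
      show w = ((⟨w, c.plike.le hw⟩ : ↥K) : L) from rfl, Clifford.Basic.indFun_apply_normal,
      Finset.sum_congr rfl (g := fun _ => (1 : ℂ)) fun x _ => by
        rw [conjC_apply]; exact hlin _ (by simpa using c.normal.conj_mem w hw x),
      Finset.sum_const, Finset.card_univ, nsmul_eq_mul, mul_one, Fintype.card_eq_nat_card,
      ← K.card_mul_index, Nat.cast_mul, ← mul_assoc, inv_mul_cancel₀ (subgroup_card_ne_zero K),
      one_mul]
  · by_contra hall
    push Not at hall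
    have e : (fun k : ↥K => Cfsg.indFun K θ k) =
        Cfsg.indFun K θ 1 • (fun _ : ↥K => (1 : ℂ)) :=
      funext fun k => by simp [hall k k.2]
    have h0 : Cfsg.classInner (fun k : ↥K => Cfsg.indFun K θ k) θ = 0 := by
      rw [e, classInner_smul_left, Isometry.Inner.classInner_irr_eq (χ := fun _ : ↥K => (1 : ℂ)) (oneChar ↥K).2 hθ,
        if_neg (Ne.symm hne), mul_zero]
    rw [← frobenius_reciprocity' K θ (isClassFunction_indFun K θ)] at h0
    exact one_ne_zero ((classInner_self_irr ⟨_, hind⟩).symm.trans h0)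

/-- The number of these characters. -/
theorem card_layer :
    Nat.card W₁ * (layer K W₂).card + 1 = W₂.relIndex K := by
  classical
  haveI := c.normal
  have h := sum_sq_layer (L := L) c.plike.le
  rw [Finset.sum_congr rfl fun ξ hξ => by
    obtain ⟨θ, -, -, -, -, e, -⟩ := layer_spec c hξ
    rw [e], Finset.sum_const, nsmul_eq_mul, ← Subgroup.relIndex_mul_index c.plike.le,
    c.plike.index_eq, Nat.cast_mul, eq_sub_iff_add_eq] at h
  refine Nat.eq_of_mul_eq_mul_right (Nat.card_pos (α := W₁)) ?_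
  have h' : ((((Nat.card W₁ * (layer K W₂).card + 1) * Nat.card W₁ : ℕ)) : ℂ) =
      ((W₂.relIndex K * Nat.card W₁ : ℕ) : ℂ) := by
    push_cast
    linear_combination h
  exact_mod_cast h'

/-- The count in terms of the degree of a non-linear character. -/
theorem card_layer_degree {θ : ↥K → ℂ} (hθ : Cfsg.IsIrrCharacter ↥K θ) (h1 : θ 1 ≠ 1) {d : ℕ}
    (hd : θ 1 = (d : ℂ)) : Nat.card W₁ * (layer K W₂).card + 1 = d ^ 2 := by
  rw [card_layer c]
  have h2 := degree_sq c hθ h1 hd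
  rw [← Subgroup.relIndex_bot_left K, ← Subgroup.relIndex_mul_relIndex ⊥ W₂ K bot_le c.plike.le,
    Subgroup.relIndex_bot_left, mul_comm] at h2
  exact (Nat.eq_of_mul_eq_mul_left Nat.card_pos h2).symm

end Cfsg.Agent.Lib.OddOrder.PF10.Residual.Central
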