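import Cfsg.Agent.Lib.OddOrder.PF11.PLike
import Cfsg.Agent.Lib.Chars82.PGroupChars
import Cfsg.Agent.Lib.Isometry.Inflate
import Cfsg.Agent.Lib.Clifford.Linear

/-!
# The kernel of `L = K ⋊ W₁`

* `W₁` has no fixed point on `K ⧸ N` for `W₂ ≤ N ≤ K`: a linear character of `K` trivial on `N`
  fixed by a non-trivial element of `W₁` is principal, and all others induce irreducibly.
* Every irreducible character of `K` fixed by `L` is the restriction of a member of the family.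
-/

set_option autoImplicit false
set_option linter.style.haveILetI false
set_option linter.unusedSectionVars false

namespace Cfsg.Agent.Lib.OddOrder.PF10.Residual.Kernel

open Cfsg.Agent.Lib
open Cfsg.Agent.Lib.CyclicTI
open Cfsg.Agent.Lib.Induced.Basic Cfsg.Agent.Lib.Characters.Basic
open Cfsg.Agent.Lib.Clifford.Basic (conjC conjC_apply conjC_of_mem inertia mem_inertia)
open Cfsg.Agent.Lib.OddOrder.PF11.PLike (Attached)

universe u

variable {L : Type u} [_root_.Group L] [Fintype L] {K W₁ W₂ : Subgroup L} [hK : K.Normal]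
  (h : IsPLike K W₁ W₂)

include h

/-- No non-trivial element of `W₁` has a fixed point on `K ⧸ N`. -/
theorem mem_of_commutator_mem {N : Subgroup L} [N.Normal] (hN : N ≤ K) (hW₂ : W₂ ≤ N) {v k : L}
    (hv : v ∈ W₁) (hv1 : v ≠ 1) (hk : k ∈ K) (hc : v * k * v⁻¹ * k⁻¹ ∈ N) : k ∈ N := by
  have hn : k⁻¹ * v * k * v⁻¹ ∈ N := by
    simpa [mul_assoc] using Subgroup.Normal.conj_mem (inferInstance : N.Normal) _ hc k⁻¹
  obtain ⟨y, hy, c, hc', hcv, he⟩ := Cfsg.Agent.S1496.result N v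
    (by rw [Subgroup.normalizer_eq_top]; trivial)
    ((h.coprime.coprime_dvd_left (Subgroup.orderOf_dvd_natCard _ hv)).coprime_dvd_right
      (Subgroup.card_dvd_of_le hN)) _ hn
  have hcW₂ : c ∈ W₂ := by
    rw [← h.cent v hv hv1]
    exact ⟨hN hc', Subgroup.mem_centralizer_singleton_iff.2 hcv⟩
  have hw : v ∉ W₂ := fun h2 => hv1 (CyclicTI.eq_one_of_mem h.selfNormalizing hv h2)
  have he' : (y * k⁻¹) * v * (y * k⁻¹)⁻¹ = c * v := by
    rw [← he]; group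
  have hg := h.mem_of_conj (w := ⟨v, Subgroup.mem_sup_left hv⟩) (g := y * k⁻¹) hw (by
    show (y * k⁻¹) * v * (y * k⁻¹)⁻¹ ∈ W₁ ⊔ W₂
    rw [he']
    exact (W₁ ⊔ W₂).mul_mem (Subgroup.mem_sup_right hcW₂) (Subgroup.mem_sup_left hv))
  have hg2 : y * k⁻¹ ∈ N := hW₂ ((h.mem_K_iff ⟨_, hg⟩).1 (K.mul_mem (hN hy) (K.inv_mem hk)))
  have h2 : y⁻¹ * (y * k⁻¹) ∈ N := N.mul_mem (N.inv_mem hy) hg2
  rw [inv_mul_cancel_left] at h2
  exact N.inv_mem_iff.1 h2

/-- A linear character of `K` trivial on `N` and fixed by a non-trivial element of `W₁` is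
principal. -/
theorem hom_eq_one {N : Subgroup L} [N.Normal] (hN : N ≤ K) (hW₂ : W₂ ≤ N) (lam : ↥K →* ℂˣ)
    (hlam : ∀ k : ↥K, (k : L) ∈ N → lam k = 1) {v : L} (hv : v ∈ W₁) (hv1 : v ≠ 1)
    (hfix : ∀ k : ↥K, lam (⟨v * k * v⁻¹, hK.conj_mem k k.2 v⟩) = lam k) : lam = 1 := by
  classical
  haveI hNK : (N.subgroupOf K).Normal := inferInstance
  let σ : ↥K →* ↥K := (MulAut.conjNormal v : MulAut ↥K).toMonoidHom
  have hσ : ∀ k : ↥K, σ k = ⟨v * k * v⁻¹, hK.conj_mem k k.2 v⟩ := fun k => Subtype.ext rfl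
  have hσN : N.subgroupOf K ≤ (N.subgroupOf K).comap σ := fun k hk => by
    rw [Subgroup.mem_comap, hσ, Subgroup.mem_subgroupOf]
    exact Subgroup.Normal.conj_mem (inferInstance : N.Normal) _ hk v
  let τ := QuotientGroup.map (N.subgroupOf K) (N.subgroupOf K) σ hσN
  let f : ↥K ⧸ N.subgroupOf K → ↥K ⧸ N.subgroupOf K := fun a => τ a * a⁻¹
  have hf : Function.Injective f := by
    intro a b hab
    induction a using QuotientGroup.induction_on with
    | _ a =>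
    induction b using QuotientGroup.induction_on with
    | _ b =>
    have e : τ ((a : ↥K ⧸ N.subgroupOf K)⁻¹ * (b : ↥K ⧸ N.subgroupOf K)) =
        (a : ↥K ⧸ N.subgroupOf K)⁻¹ * (b : ↥K ⧸ N.subgroupOf K) := by
      have h1 : τ (b : ↥K ⧸ N.subgroupOf K) =
          τ (a : ↥K ⧸ N.subgroupOf K) * (a : ↥K ⧸ N.subgroupOf K)⁻¹ * (b : ↥K ⧸ N.subgroupOf K) := by
        have h2 : τ (a : ↥K ⧸ N.subgroupOf K) * (a : ↥K ⧸ N.subgroupOf K)⁻¹ =
            τ (b : ↥K ⧸ N.subgroupOf K) * (b : ↥K ⧸ N.subgroupOf K)⁻¹ := hab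
        rw [h2, inv_mul_cancel_right]
      rw [map_mul, map_inv, h1]
      group
    rw [← QuotientGroup.mk_inv, ← QuotientGroup.mk_mul] at e
    set c : ↥K := a⁻¹ * b with hcdef
    rw [show τ (c : ↥K ⧸ N.subgroupOf K) = ((σ c : ↥K) : ↥K ⧸ N.subgroupOf K) from rfl,
      QuotientGroup.eq, Subgroup.mem_subgroupOf, hσ] at e
    have e2 : v * (c : L) * v⁻¹ * (c : L)⁻¹ ∈ N := by
      have h3 := N.inv_mem e
      simp only [Subgroup.coe_mul, InvMemClass.coe_inv, mul_inv_rev, inv_inv] at h3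
      have h4 := Subgroup.Normal.conj_mem (inferInstance : N.Normal) _ h3 (c : L)
      simpa [mul_assoc] using h4
    have hcN := mem_of_commutator_mem h hN hW₂ hv hv1 c.2 e2
    rw [QuotientGroup.eq, Subgroup.mem_subgroupOf]
    exact hcN
  refine MonoidHom.ext fun k => ?_
  obtain ⟨a, ha⟩ := (Finite.injective_iff_surjective.1 hf) (k : ↥K ⧸ N.subgroupOf K)
  induction a using QuotientGroup.induction_on with
  | _ a =>
  have ha' : ((σ a * a⁻¹ : ↥K) : ↥K ⧸ N.subgroupOf K) = (k : ↥K ⧸ N.subgroupOf K) := ha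
  rw [QuotientGroup.eq, Subgroup.mem_subgroupOf] at ha'
  have e := hlam _ ha'
  rw [map_mul, map_inv, map_mul, map_inv, hσ, hfix a, mul_inv_cancel, inv_one, one_mul] at e
  rw [e, MonoidHom.one_apply]

/-- A non-principal linear character of `K` trivial on `N` induces irreducibly. -/
theorem isIrr_indFun {N : Subgroup L} [N.Normal] (hN : N ≤ K) (hW₂ : W₂ ≤ N) {θ : ↥K → ℂ}
    (hθ : Cfsg.IsIrrCharacter ↥K θ) (h1 : θ 1 = 1) (hθN : ∀ k : ↥K, (k : L) ∈ N → θ k = 1)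
    (hne : θ ≠ fun _ => 1) : Cfsg.IsIrrCharacter L (Cfsg.indFun K θ) := by
  refine Induced.Mackey.isIrrCharacter_indFun K hθ fun g hg => ?_
  obtain ⟨lam, hlam⟩ := Clifford.Linear.exists_hom
    (lam := θ) ⟨IsCharacter_of_isIrrCharacter hθ, h1⟩
  have hcl := isClassFunction_irr (⟨θ, hθ⟩ : Cfsg.IrrCharacter ↥K)
  obtain ⟨k, hk, v, hv, rfl⟩ : ∃ k ∈ K, ∃ v ∈ W₁, k * v = g :=
    Subgroup.mem_sup_of_normal_left.mp (h.sup_eq ▸ Subgroup.mem_top g)
  rcases eq_or_ne v 1 with rfl | hv1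
  · rwa [mul_one]
  exfalso
  rw [Clifford.Basic.conjC_mul, conjC_of_mem K hcl hk] at hg
  apply hne
  have e : lam = 1 := hom_eq_one h hN hW₂ lam (fun k hk => Units.ext (by
    show (lam k : ℂ) = 1
    rw [show (lam k : ℂ) = θ k from congrFun hlam k]
    exact hθN k hk)) hv hv1 fun k => Units.ext (by
      show (lam _ : ℂ) = (lam k : ℂ)
      rw [show (lam ⟨v * k * v⁻¹, _⟩ : ℂ) = θ _ from congrFun hlam _,
        show (lam k : ℂ) = θ k from congrFun hlam k]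
      exact congrFun hg k)
  funext k
  rw [← congrFun hlam k, e]
  rfl

variable {μ : (↥(W₁ ⊔ W₂) →* ℂˣ) → (L → ℂ)} {δ : (↥(W₁ ⊔ W₂) →* ℂˣ) → ℂ} (A : Attached μ δ)

include A

/-- The restrictions to `K` of different columns differ. -/
theorem restrict_inj {ψ ψ' : ↥(W₁ ⊔ W₂) →* ℂˣ} (hψ : IsQ ψ) (hψ' : IsQ ψ')
    (he : ∀ k ∈ K, μ ψ k = μ ψ' k) : ψ = ψ' := by
  classical
  haveI := finite_hom (G := L) (W₁ := W₁) (W₂ := W₂)
  haveI := Fintype.ofFinite (↥(W₁ ⊔ W₂) →* ℂˣ)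
  let P := Finset.univ.filter fun φ : ↥(W₁ ⊔ W₂) →* ℂˣ => IsP φ
  have hP : ∀ φ, φ ∈ P ↔ IsP φ := fun φ => by simp [P]
  have e1 := PF11.PLike.column h A P hP (ψ := ψ)
  have e2 := PF11.PLike.column h A P hP (ψ := ψ')
  rw [show (fun k : ↥K => μ ψ k) = fun k : ↥K => μ ψ' k from funext fun k => he k k.2, e2] at e1
  have e3 := congrArg (fun f => Cfsg.classInner f (μ ψ)) e1
  simp only [classInner_sum_left, Isometry.Inner.classInner_irr_eq (A.irr _) (A.irr _)] at e3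
  by_contra hne
  rw [Finset.sum_eq_zero, Finset.sum_eq_single 1, if_pos] at e3
  · exact zero_ne_one e3
  · rw [show (1 : ↥(W₁ ⊔ W₂) →* ℂˣ) * ψ = ψ from MonoidHom.ext fun w => by simp]
  · intro φ hφ hφ1
    exact if_neg fun e => hφ1 ((eq_mul_iff' ((hP φ).1 hφ) hψ hψ).1 (A.inj e)).1
  · exact fun hh => absurd ((hP 1).2 isP_one) hh
  · intro φ hφ
    exact if_neg fun e => hne (((eq_mul_iff' ((hP φ).1 hφ) hψ' hψ).1 (A.inj e)).2.symm)

/-- An irreducible character of `K` fixed by `L` is the restriction of a member of the family. -/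
theorem exists_col {θ : ↥K → ℂ} (hθ : Cfsg.IsIrrCharacter ↥K θ)
    (hinv : ∀ g : L, conjC K g θ = θ) : ∃ ψ, IsQ ψ ∧ θ = fun k : ↥K => μ ψ k := by
  classical
  haveI := finite_hom (G := L) (W₁ := W₁) (W₂ := W₂)
  haveI := Fintype.ofFinite (↥(W₁ ⊔ W₂) →* ℂˣ)
  obtain ⟨Q, hQf, Θ, hcard, hΘinj, -, -, -, hall⟩ := h.exists_invariant
  haveI := Fintype.ofFinite Q
  obtain ⟨x, hx, hx1⟩ := W₁.bot_or_exists_ne_one.resolve_left h.ne₁
  have hres : ∀ ψ, ∃ i, (fun k : ↥K => μ ψ k) = Θ i := fun ψ =>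
    hall _ x (PF11.PLike.restrict_irr h A ψ) hx hx1
      (Clifford.Basic.conjC_restrict K (isClassFunction_irr ⟨_, A.irr ψ⟩) x)
  choose i hi using hres
  let J : {ψ : ↥(W₁ ⊔ W₂) →* ℂˣ // IsQ ψ} → Q := fun ψ => i ψ.1
  have hJ : Function.Injective J := fun a b e => Subtype.ext (restrict_inj h A a.2 b.2 fun k hk => by
    have ea := congrFun (hi a.1) ⟨k, hk⟩
    have eb := congrFun (hi b.1) ⟨k, hk⟩
    rw [show i a.1 = i b.1 from e] at ea
    exact ea.trans eb.symm)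
  have hb : Function.Bijective J := by
    refine (Fintype.bijective_iff_injective_and_card J).2 ⟨hJ, ?_⟩
    rw [← Nat.card_eq_fintype_card (α := Q), hcard, Fintype.card_subtype, card_isQ h.selfNormalizing]
  obtain ⟨j, hj⟩ := hall θ x hθ hx hx1 (hinv x)
  obtain ⟨ψ, rfl⟩ := hb.surjective j
  exact ⟨ψ.1, ψ.2, hj.trans (hi ψ.1).symm⟩

/-- A non-trivial column restricts non-principally. -/
theorem restrict_ne_one {ψ : ↥(W₁ ⊔ W₂) →* ℂˣ} (hψ : IsQ ψ) (h1 : ψ ≠ 1) :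
    (fun k : ↥K => μ ψ k) ≠ fun _ => 1 := fun e => h1 (restrict_inj h A hψ isQ_one fun k hk => by
  rw [PF11.PLike.map_one' h A]
  exact congrFun e ⟨k, hk⟩)

end Cfsg.Agent.Lib.OddOrder.PF10.Residual.Kernel
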